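import Groth.Agent.Lib.BCCoh.PullSec

/-! # Pulled-back sections under the canonical isomorphisms -/

set_option autoImplicit false
set_option backward.isDefEq.respectTransparency false
set_option linter.style.haveILetI false
universe u

open CategoryTheory AlgebraicGeometry Opposite TopologicalSpace
open GrothLib.BCCoh (pullRes)

namespace GrothLib.CohPullLib

variable {X Y Z : Scheme.{u}}

theorem pullRes_def (g : X ⟶ Y) (F : Y.Modules) (V : Y.Opens) (V' : X.Opens) (e : V' ≤ g ⁻¹ᵁ V) (s : Γ(F, V)) :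
    pullRes g F V V' e s = ((Scheme.Modules.pullback g).obj F).presheaf.map (homOfLE e).op
      (((Scheme.Modules.pullbackPushforwardAdjunction g).unit.app F).app V s) := rfl

theorem map_map_sec (M : X.Modules) {U V W : X.Opens} (h : V ≤ U) (h' : W ≤ V) (s : Γ(M, U)) :
    M.presheaf.map (homOfLE h').op (M.presheaf.map (homOfLE h).op s) =
      M.presheaf.map (homOfLE (h'.trans h)).op s :=
  Cohom.map_map_apply M (homOfLE h) (homOfLE h') s

theorem map_sec_self (M : X.Modules) {U : X.Opens} (h : U ≤ U) (s : Γ(M, U)) :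
    M.presheaf.map (homOfLE h).op s = s :=
  Cohom.map_self_apply M (homOfLE h) s

theorem app_res {M N : X.Modules} (φ : M ⟶ N) {U V : X.Opens} (h : V ≤ U) (s : Γ(M, U)) :
    φ.app V (M.presheaf.map (homOfLE h).op s) = N.presheaf.map (homOfLE h).op (φ.app U s) :=
  ConcreteCategory.congr_hom (φ.mapPresheaf.naturality (homOfLE h).op) s

theorem pullRes_map (g : X ⟶ Y) {F G : Y.Modules} (φ : F ⟶ G) (V : Y.Opens) (V' : X.Opens)
    (e : V' ≤ g ⁻¹ᵁ V) (s : Γ(F, V)) :
    ((Scheme.Modules.pullback g).map φ).app V' (pullRes g F V V' e s) = pullRes g G V V' e (φ.app V s) := by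
  rw [pullRes_def, pullRes_def, app_res]
  refine congrArg (((Scheme.Modules.pullback g).obj G).presheaf.map (homOfLE e).op) ?_
  exact (congrArg (fun t => (Scheme.Modules.Hom.app t V) s)
    ((Scheme.Modules.pullbackPushforwardAdjunction g).unit.naturality φ)).symm

theorem restrictIso_pullRes (j : X ⟶ Y) [IsOpenImmersion j] (F : Y.Modules) (V : Y.Opens) (V' : X.Opens)
    (e : V' ≤ j ⁻¹ᵁ V) (e' : j ''ᵁ V' ≤ V) (s : Γ(F, V)) :
    ((Scheme.Modules.restrictFunctorIsoPullback j).hom.app F).app V' (F.presheaf.map (homOfLE e').op s) =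
      pullRes j F V V' e s := by
  have h := congrArg (fun t => (Scheme.Modules.Hom.app t V) s)
    (Adjunction.unit_leftAdjointUniq_hom_app (Scheme.Modules.restrictAdjunction j)
      (Scheme.Modules.pullbackPushforwardAdjunction j) F)
  rw [pullRes_def]
  refine Eq.trans ?_ (congrArg (((Scheme.Modules.pullback j).obj F).presheaf.map (homOfLE e).op) h)
  show _ = ((Scheme.Modules.pullback j).obj F).presheaf.map (homOfLE e).op
    (((Scheme.Modules.restrictFunctorIsoPullback j).hom.app F).app (j ⁻¹ᵁ V)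
      (F.presheaf.map (homOfLE (j.image_preimage_le V)).op s))
  refine Eq.trans ?_ (app_res ((Scheme.Modules.restrictFunctorIsoPullback j).hom.app F) e _)
  refine congrArg (((Scheme.Modules.restrictFunctorIsoPullback j).hom.app F).app V') ?_
  exact (map_map_sec F (j.image_preimage_le V) (j.image_mono e) s).symm

theorem pullbackComp_pullRes (f : X ⟶ Y) (g : Y ⟶ Z) (F : Z.Modules) (V : Z.Opens) (V₁ : Y.Opens)
    (V₂ : X.Opens) (e₁ : V₁ ≤ g ⁻¹ᵁ V) (e₂ : V₂ ≤ f ⁻¹ᵁ V₁) (e : V₂ ≤ (f ≫ g) ⁻¹ᵁ V) (s : Γ(F, V)) :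
    ((Scheme.Modules.pullbackComp f g).hom.app F).app V₂
        (pullRes f ((Scheme.Modules.pullback g).obj F) V₁ V₂ e₂ (pullRes g F V V₁ e₁ s)) =
      pullRes (f ≫ g) F V V₂ e s := by
  have h := congrArg (fun t => (Scheme.Modules.Hom.app t V) s)
    (unit_conjugateEquiv
      ((Scheme.Modules.pullbackPushforwardAdjunction g).comp (Scheme.Modules.pullbackPushforwardAdjunction f))
      (Scheme.Modules.pullbackPushforwardAdjunction (f ≫ g)) (Scheme.Modules.pullbackComp f g).inv F)
  rw [Scheme.Modules.conjugateEquiv_pullbackComp_inv] at h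
  have key : pullRes f ((Scheme.Modules.pullback g).obj F) V₁ V₂ e₂ (pullRes g F V V₁ e₁ s) =
      ((Scheme.Modules.pullbackComp f g).inv.app F).app V₂ (pullRes (f ≫ g) F V V₂ e s) := by
    rw [pullRes_def, pullRes_def g, pullRes_def (f ≫ g)]
    refine (congrArg (((Scheme.Modules.pullback f).obj ((Scheme.Modules.pullback g).obj F)).presheaf.map (homOfLE e₂).op)
      (app_res ((Scheme.Modules.pullbackPushforwardAdjunction f).unit.app ((Scheme.Modules.pullback g).obj F)) e₁ _)).trans ?_
    refine Eq.trans ?_ (app_res ((Scheme.Modules.pullbackComp f g).inv.app F) e _).symm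
    refine Eq.trans (map_map_sec ((Scheme.Modules.pullback f).obj ((Scheme.Modules.pullback g).obj F))
      (f.preimage_mono e₁) e₂ _) ?_
    exact congrArg (((Scheme.Modules.pullback f).obj ((Scheme.Modules.pullback g).obj F)).presheaf.map (homOfLE e).op) h
  rw [key, ← ConcreteCategory.comp_apply, ← Scheme.Modules.Hom.comp_app, Iso.inv_hom_id_app]
  rfl

theorem pullbackCongr_pullRes {f g : X ⟶ Y} (h : f = g) (F : Y.Modules) (V : Y.Opens) (V' : X.Opens)
    (e : V' ≤ f ⁻¹ᵁ V) (e' : V' ≤ g ⁻¹ᵁ V) (s : Γ(F, V)) :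
    ((Scheme.Modules.pullbackCongr h).hom.app F).app V' (pullRes f F V V' e s) = pullRes g F V V' e' s := by
  subst h
  rfl

theorem pullbackId_pullRes (F : X.Modules) (V V' : X.Opens) (e : V' ≤ 𝟙 X ⁻¹ᵁ V) (e' : V' ≤ V) (s : Γ(F, V)) :
    ((Scheme.Modules.pullbackId X).hom.app F).app V' (pullRes (𝟙 X) F V V' e s) =
      F.presheaf.map (homOfLE e').op s := by
  have h := congrArg (fun t => (Scheme.Modules.Hom.app t V) s)
    (unit_conjugateEquiv Adjunction.id (Scheme.Modules.pullbackPushforwardAdjunction (𝟙 X))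
      (Scheme.Modules.pullbackId X).hom F)
  rw [Scheme.Modules.conjugateEquiv_pullbackId_hom] at h
  rw [pullRes_def, app_res]
  exact congrArg _ h.symm

end GrothLib.CohPullLib
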