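import Groth.Agent.Lib.CohPullLib.Res
import Groth.Agent.Lib.Cohom.HomologySections
import Groth.Agent.Lib.Cohom.LinearLES
import Groth.Agent.Lib.Cohom.OpenCompare
import Groth.Agent.Lib.Cohom.InjModule

/-! # The comparison `H^p(f⁻¹V, F) → Γ(V, R^p f_* F)` -/

set_option autoImplicit false
set_option backward.isDefEq.respectTransparency false
set_option linter.style.haveILetI false
universe u

open CategoryTheory CategoryTheory.Limits AlgebraicGeometry TopologicalSpace Opposite CategoryTheory.Abelian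

namespace GrothLib.CohPullLib

variable {X Y : Scheme.{u}}

theorem toAbOn_shortExact (U : X.Opens) {S : ShortComplex X.Modules} (hS : S.ShortExact) :
    (S.map (CohCmp.toAbOn X U)).ShortExact :=
  Cohom.restrFun_map_shortExact (Scheme.Hom.isOpenEmbedding U.ι) (QCoh.toAbFun_map_shortExact S hS)

theorem subsingleton_HHon_of_injective (I : X.Modules) (hI : Injective I) (U : X.Opens) (n : ℕ) :
    Subsingleton (Coh.HHon X I U (n + 1)) := by
  have h : TopCat.Sheaf.IsFlasque ((QCoh.toAbFun X).obj I) := Cohom.isFlasque_toAb_of_injective I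
  have : TopCat.Sheaf.IsFlasque (Coh.toAb (I.restrict U.ι)) :=
    ⟨fun i ↦ h.epi ((Scheme.Hom.opensFunctor U.ι).op.map i)⟩
  have := SheafCoh.flasque_HU_subsingleton (Coh.toAb (I.restrict U.ι)) n (⊤ : (U : Scheme.{u}).Opens)
  exact @Equiv.subsingleton _ _ (Cohom.HEquivTop (Coh.toAb (I.restrict U.ι)) (n + 1)).toEquiv this

/-- An injective presentation. -/
theorem exists_ses [HasInjectiveResolutions X.Modules] (F : X.Modules) :
    ∃ (S : ShortComplex X.Modules) (_ : S.ShortExact), S.X₁ = F ∧ Injective S.X₂ := by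
  obtain ⟨I⟩ := Cohom.nonempty_flRes F
  let R := injectiveResolution F
  exact ⟨ShortComplex.mk (R.ι.f 0) (cokernel.π (R.ι.f 0)) (cokernel.condition _),
    { exact := ShortComplex.exact_of_g_is_cokernel _ (cokernelIsCokernel _) }, rfl, R.injective 0⟩

theorem exists_local_lift {T : ShortComplex X.Modules} (hT : T.Exact) {V : X.Opens} (t : Γ(T.X₂, V))
    (ht : T.g.app V t = 0) (x : X) (hx : x ∈ V) :
    ∃ (W : X.Opens) (h : W ≤ V), x ∈ W ∧ ∃ w : Γ(T.X₁, W), T.f.app W w = T.X₂.presheaf.map (homOfLE h).op t := by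
  have : Epi (kernel.lift T.g T.f T.zero) := hT.epi_kernelLift
  let E : X.Modules ⥤ AddCommGrpCat.{u} :=
    QCoh.toAbFun X ⋙ sheafToPresheaf _ _ ⋙ (evaluation _ _).obj (op V)
  have : PreservesFiniteColimits (QCoh.toAbFun X) :=
    QCoh.toSheaf_preservesFiniteColimits (R := X.ringCatSheaf)
  have : PreservesFiniteLimits (QCoh.toAbFun X) :=
    (((QCoh.toAbFun X).exact_tfae.out 0 3
      (a := ∀ (T : ShortComplex X.Modules), T.ShortExact → (T.map (QCoh.toAbFun X)).ShortExact)
      (b := PreservesFiniteLimits (QCoh.toAbFun X) ∧ PreservesFiniteColimits (QCoh.toAbFun X))).1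
        QCoh.toAbFun_map_shortExact).1
  have h := ShortComplex.exact_of_f_is_kernel
    (ShortComplex.mk (E.map (kernel.ι T.g)) (E.map T.g)
      (by rw [← E.map_comp, kernel.condition, E.map_zero]))
    (isLimitForkMapOfIsLimit' E (kernel.condition T.g) (kernelIsKernel T.g))
  rw [ShortComplex.ab_exact_iff] at h
  obtain ⟨k, hk⟩ := h t ht
  obtain ⟨W, h, hxW, w, hw⟩ := Cocyc.exists_local_preimage (kernel.lift T.g T.f T.zero) k x hx
  refine ⟨W, h, hxW, w, ?_⟩
  conv_lhs => rw [← kernel.lift_ι T.g T.f T.zero]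
  refine (congrArg ((kernel.ι T.g).app W) hw).trans ?_
  exact (app_res (kernel.ι T.g) h k).trans (congrArg (T.X₂.presheaf.map (homOfLE h).op) hk)

theorem exists_extδ_eq {S : ShortComplex X.Modules} (hS : S.ShortExact) (hI : Injective S.X₂) (U : X.Opens)
    (p : ℕ) (x : Coh.HHon X S.X₁ U (p + 1)) :
    ∃ z : Coh.HHon X S.X₃ U p, CohCmp.extδ (toAbOn_shortExact U hS) p z = x := by
  have := subsingleton_HHon_of_injective S.X₂ hI U p
  obtain ⟨z, hz⟩ := Ext.covariant_sequence_exact₁ _ (toAbOn_shortExact U hS) x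
    (Subsingleton.elim (α := Coh.HHon X S.X₂ U (p + 1)) _ _) rfl
  exact ⟨z, hz⟩

theorem resLE_resLE [HasInjectiveResolutions X.Modules] (p : ℕ) : ∀ (F : X.Modules) {U U' U'' : X.Opens}
    (h : U' ≤ U) (h' : U'' ≤ U') (x : Coh.HHon X F U p),
    CohPull.resLE F h' p (CohPull.resLE F h p x) = CohPull.resLE F (h'.trans h) p x := by
  induction p with
  | zero =>
    intro F U U' U'' h h' x
    obtain ⟨s, rfl⟩ := (CohPull.sectH0 F U).surjective x
    rw [resLE_sectH0, resLE_sectH0, resLE_sectH0, map_map_sec]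
  | succ p ih =>
    intro F U U' U'' h h' x
    obtain ⟨S, hS, rfl, hI⟩ := exists_ses F
    obtain ⟨z, rfl⟩ := exists_extδ_eq hS hI U p x
    rw [resLE_delta h S (toAbOn_shortExact _ hS) (toAbOn_shortExact _ hS),
      resLE_delta h' S (toAbOn_shortExact _ hS) (toAbOn_shortExact _ hS),
      resLE_delta (h'.trans h) S (toAbOn_shortExact _ hS) (toAbOn_shortExact _ hS), ih S.X₃ h h' z]

variable (f : X ⟶ Y) [HasInjectiveResolutions X.Modules] {Δ : RDer.DerivedLES (Scheme.Modules.pushforward f)}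
  (E : CohCmp.SectCmp f Δ)

/-- The comparison commutes with restriction. -/
theorem eps_res (p : ℕ) : ∀ (F : X.Modules) {V W : Y.Opens} (h : W ≤ V) (x : Coh.HHon X F (f ⁻¹ᵁ V) p),
    E.ε W F p (CohPull.resLE F (f.preimage_mono h) p x) =
      ((Coh.Rpush f p).obj F).presheaf.map (homOfLE h).op (E.ε V F p x) := by
  induction p with
  | zero =>
    intro F V W h x
    obtain ⟨s, rfl⟩ := (CohPull.sectH0 F (f ⁻¹ᵁ V)).surjective x
    rw [resLE_sectH0, E.zero, E.zero]
    exact app_res ((Scheme.Modules.pushforward f).toRightDerivedZero.app F) h s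
  | succ p ih =>
    intro F V W h x
    obtain ⟨S, hS, rfl, hI⟩ := exists_ses F
    obtain ⟨z, rfl⟩ := exists_extδ_eq hS hI (f ⁻¹ᵁ V) p x
    rw [resLE_delta (f.preimage_mono h) S (toAbOn_shortExact _ hS) (toAbOn_shortExact _ hS),
      E.delta W S hS, E.delta V S hS, ih S.X₃ h z]
    exact app_res (Δ.δ S hS p (p + 1) rfl) h _

/-- Every section of `R^p f_* F` is locally a class, and classes with zero section are locally zero. -/
theorem eps_locally (p : ℕ) : ∀ (F : X.Modules) (V : Y.Opens),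
    (∀ (t : Γ((Coh.Rpush f p).obj F, V)) (y : Y), y ∈ V →
      ∃ (W : Y.Opens) (hWV : W ≤ V), y ∈ W ∧ ∃ x : Coh.HHon X F (f ⁻¹ᵁ W) p,
        E.ε W F p x = ((Coh.Rpush f p).obj F).presheaf.map (homOfLE hWV).op t) ∧
    (∀ (x : Coh.HHon X F (f ⁻¹ᵁ V) p), E.ε V F p x = 0 → ∀ y : Y, y ∈ V →
      ∃ (W : Y.Opens) (hWV : W ≤ V), y ∈ W ∧ CohPull.resLE F (f.preimage_mono hWV) p x = 0) := by
  induction p with
  | zero =>
    intro F V
    have : PreservesFiniteLimits (Scheme.Modules.pushforward f) := by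
      have : PreservesLimitsOfSize.{0, 0} (Scheme.Modules.pushforward f) :=
        (Scheme.Modules.pullbackPushforwardAdjunction f).rightAdjoint_preservesLimits
      exact PreservesLimitsOfSize.preservesFiniteLimits.{0, 0} _
    have hb : Function.Bijective (E.ε V F 0) := by
      have h := ConcreteCategory.bijective_of_isIso
        (((Scheme.Modules.pushforward f).toRightDerivedZero.app F).app V)
      refine ⟨fun a b hab => ?_, fun t => ?_⟩
      · obtain ⟨a, rfl⟩ := (CohPull.sectH0 F (f ⁻¹ᵁ V)).surjective a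
        obtain ⟨b, rfl⟩ := (CohPull.sectH0 F (f ⁻¹ᵁ V)).surjective b
        rw [E.zero, E.zero] at hab
        exact congrArg _ (h.1 hab)
      · obtain ⟨s, hs⟩ := h.2 t
        exact ⟨CohPull.sectH0 F (f ⁻¹ᵁ V) s, (E.zero V F s).trans hs⟩
    refine ⟨fun t y hy => ?_, fun x hx y hy => ?_⟩
    · obtain ⟨x, hx⟩ := hb.2 t
      exact ⟨V, le_rfl, hy, x, hx.trans (map_sec_self _ le_rfl t).symm⟩
    · refine ⟨V, le_rfl, hy, ?_⟩
      have : x = 0 := hb.1 (hx.trans (map_zero _).symm)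
      rw [this, map_zero]
  | succ p ih =>
    intro F V
    obtain ⟨S, hS, rfl, hI⟩ := exists_ses F
    have hz : IsZero ((Coh.Rpush f (p + 1)).obj S.X₂) :=
      Functor.isZero_rightDerived_obj_injective_succ _ p S.X₂
    refine ⟨fun t y hy => ?_, fun x hx y hy => ?_⟩
    · have : Subsingleton Γ((Coh.Rpush f (p + 1)).obj S.X₂, V) :=
        subsingleton_of_forall_eq 0 fun a => by
          have e := congrArg (fun φ => Scheme.Modules.Hom.app φ V a)
            (hz.eq_of_src (𝟙 _) (0 : (Coh.Rpush f (p + 1)).obj S.X₂ ⟶ _))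
          simpa using e
      obtain ⟨W₁, h₁, hy₁, w, hw⟩ := exists_local_lift (Δ.exact₁ S hS p (p + 1) rfl) t
        (Subsingleton.elim _ _) y hy
      obtain ⟨W, h₂, hy₂, x, hx⟩ := (ih S.X₃ W₁).1 w y hy₁
      refine ⟨W, h₂.trans h₁, hy₂, CohCmp.extδ (toAbOn_shortExact _ hS) p x, ?_⟩
      rw [E.delta W S hS, hx]
      refine (app_res (Δ.δ S hS p (p + 1) rfl) h₂ w).trans ?_
      exact (congrArg (((Coh.Rpush f (p + 1)).obj S.X₁).presheaf.map (homOfLE h₂).op) hw).trans
        (map_map_sec _ h₁ h₂ t)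
    · obtain ⟨z, rfl⟩ := exists_extδ_eq hS hI (f ⁻¹ᵁ V) p x
      rw [E.delta V S hS] at hx
      obtain ⟨W₁, h₁, hy₁, w, hw⟩ := exists_local_lift (Δ.exact₃ S hS p (p + 1) rfl) _ hx y hy
      obtain ⟨W₂, h₂, hy₂, v, hv⟩ := (ih S.X₂ W₁).1 w y hy₁
      let z₂ := CohPull.resLE S.X₃ (f.preimage_mono (h₂.trans h₁)) p z -
        CohPull.mapH ((Scheme.Modules.restrictFunctor (f ⁻¹ᵁ W₂).ι).map S.g) p v
      have hz₂ : E.ε W₂ S.X₃ p z₂ = 0 := by
        rw [map_sub, sub_eq_zero, eps_res f E p S.X₃ (h₂.trans h₁) z, E.natural, hv]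
        refine Eq.trans ?_ (app_res ((Coh.Rpush f p).map S.g) h₂ w).symm
        exact ((congrArg (((Coh.Rpush f p).obj S.X₃).presheaf.map (homOfLE h₂).op) hw).trans
          (map_map_sec _ h₁ h₂ _)).symm
      obtain ⟨W, h₃, hyW, hres⟩ := (ih S.X₃ W₂).2 z₂ hz₂ y hy₂
      refine ⟨W, h₃.trans (h₂.trans h₁), hyW, ?_⟩
      rw [resLE_delta (f.preimage_mono (h₃.trans (h₂.trans h₁))) S (toAbOn_shortExact _ hS)
        (toAbOn_shortExact _ hS)]
      rw [map_sub, sub_eq_zero, resLE_natural] at hres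
      have hcomp : CohPull.resLE S.X₃ (f.preimage_mono (h₃.trans (h₂.trans h₁))) p z =
          CohPull.resLE S.X₃ (f.preimage_mono h₃) p (CohPull.resLE S.X₃ (f.preimage_mono (h₂.trans h₁)) p z) :=
        (resLE_resLE p S.X₃ (f.preimage_mono (h₂.trans h₁)) (f.preimage_mono h₃) z).symm
      rw [hcomp, hres]
      refine (Ext.comp_assoc_of_second_deg_zero _ _ _ (rfl : p + 1 = p + 1)).trans ?_
      exact (congrArg (fun t => Ext.comp (CohPull.resLE S.X₂ (f.preimage_mono h₃) p v) t (rfl : p + 1 = p + 1))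
        (toAbOn_shortExact (f ⁻¹ᵁ W) hS).comp_extClass).trans (Ext.comp_zero _ _ _ _ _)

end GrothLib.CohPullLib
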