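import Groth.Prelude.Def_CohPull
import Groth.Agent.Lib.ExtAdj.Basic
import Groth.Agent.Lib.Cohom.ResolutionCompare
import Groth.Agent.Lib.SheafCoh.TopPush

/-! # Pullback of cohomology classes and the edge map -/

set_option autoImplicit false
set_option backward.isDefEq.respectTransparency false
set_option linter.style.haveILetI false
universe u

open CategoryTheory CategoryTheory.Limits AlgebraicGeometry TopologicalSpace Opposite CategoryTheory.Abelian

namespace GrothLib.CohPullLib

section Top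

variable {X Y : TopCat.{u}} (f : X ⟶ Y)

/-- The composite adjunction `const_Y ⋙ f⁻¹ ⊣ Γ(X, -)`. -/
noncomputable def adjPullConst :
    constantSheaf (Opens.grothendieckTopology Y) AddCommGrpCat.{u} ⋙ CohPull.inv f ⊣
      (sheafSections (Opens.grothendieckTopology X) AddCommGrpCat.{u}).obj (op ⊤) :=
  ((CohPull.adjZ Y).comp (CohPull.invPushAdj f)).ofNatIsoRight (Iso.refl _)

theorem oneTo_eq : CohPull.oneTo f =
    (Adjunction.leftAdjointUniq (CohPull.adjZ X) (adjPullConst f)).hom.app
      (AddCommGrpCat.of (ULift.{u} ℤ)) := by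
  apply ((CohPull.adjZ X).homEquiv _ _).injective
  refine (Equiv.apply_symm_apply ((CohPull.adjZ X).homEquiv _ _) _).trans ?_
  refine Eq.trans ?_ (Adjunction.homEquiv_leftAdjointUniq_hom_app (CohPull.adjZ X) (adjPullConst f) _).symm
  simp only [adjPullConst, Adjunction.ofNatIsoRight, CohPull.oneSec]
  simp [Adjunction.comp_unit_app, Adjunction.homEquiv_unit]
  rfl

instance isIso_oneTo : IsIso (CohPull.oneTo f) := by
  rw [oneTo_eq]
  infer_instance

theorem pullAb_apply (M : CohTop.Ab Y) (p : ℕ) (x : Sheaf.H M p) :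
    CohPull.pullAb f M p x =
      (Ext.mk₀ (CohPull.oneTo f)).comp
        ((show Ext.{u} (CohTop.const Y (ULift.{u} ℤ)) M p from x).mapExactFunctor (CohPull.inv f))
        (zero_add p) := by
  simp only [CohPull.pullAb, AddMonoidHom.coe_comp, Function.comp_apply, Functor.mapExtAddHom_apply,
    Ext.bilinearComp_apply_apply]

theorem pullAb_natural {M N : CohTop.Ab Y} (φ : M ⟶ N) (p : ℕ) (x : Sheaf.H M p) :
    CohPull.pullAb f N p (Sheaf.H.map φ p x) =
      Sheaf.H.map ((CohPull.inv f).map φ) p (CohPull.pullAb f M p x) := by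
  rw [pullAb_apply, pullAb_apply]
  show (Ext.mk₀ _).comp (((show Ext.{u} _ M p from x).comp (Ext.mk₀ φ) (add_zero p)).mapExactFunctor _) _ = _
  rw [Ext.mapExactFunctor_comp, Ext.mapExactFunctor_mk₀]
  exact (Ext.comp_assoc_of_third_deg_zero _ _ _ (zero_add p)).symm

theorem pullAb_extClass {S : ShortComplex (CohTop.Ab Y)} (hS : S.ShortExact) (p : ℕ) (x : Sheaf.H S.X₃ p) :
    CohPull.pullAb f S.X₁ (p + 1) ((show Ext.{u} _ S.X₃ p from x).comp hS.extClass rfl) =
      (show Ext.{u} _ _ p from CohPull.pullAb f S.X₃ p x).comp (hS.map_of_exact (CohPull.inv f)).extClass rfl := by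
  rw [pullAb_apply, pullAb_apply, Ext.mapExactFunctor_comp, Ext.mapExactFunctor_extClass]
  exact (Ext.comp_assoc _ _ _ (zero_add p) rfl (by omega)).symm

theorem precomp_oneTo_bijective (G : CohTop.Ab X) (p : ℕ) :
    Function.Bijective (fun t : Ext.{u} ((CohPull.inv f).obj (CohTop.const Y (ULift.{u} ℤ))) G p =>
      (Ext.mk₀ (CohPull.oneTo f)).comp t (zero_add p)) := by
  refine Function.bijective_iff_has_inverse.2
    ⟨fun t => (Ext.mk₀ (inv (CohPull.oneTo f))).comp t (zero_add p), fun t => ?_, fun t => ?_⟩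
  · show (Ext.mk₀ (inv (CohPull.oneTo f))).comp ((Ext.mk₀ (CohPull.oneTo f)).comp t _) _ = t
    rw [← Ext.comp_assoc _ _ t (add_zero 0) (zero_add p) (by omega), Ext.mk₀_comp_mk₀, IsIso.inv_hom_id,
      Ext.mk₀_id_comp]
  · show (Ext.mk₀ (CohPull.oneTo f)).comp ((Ext.mk₀ (inv (CohPull.oneTo f))).comp t _) _ = t
    rw [← Ext.comp_assoc _ _ t (add_zero 0) (zero_add p) (by omega), Ext.mk₀_comp_mk₀, IsIso.hom_inv_id,
      Ext.mk₀_id_comp]

end Top

section Sch

variable {X Y : Scheme.{u}}

theorem toAb_map_comp {L M N : X.Modules} (a : L ⟶ M) (b : M ⟶ N) :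
    (SheafOfModules.toSheaf X.ringCatSheaf).map (a ≫ b) =
      (SheafOfModules.toSheaf X.ringCatSheaf).map a ≫ (SheafOfModules.toSheaf X.ringCatSheaf).map b :=
  Functor.map_comp _ _ _

theorem theta_natural (g : X ⟶ Y) {M N : Y.Modules} (φ : M ⟶ N) :
    (CohPull.inv g.base).map ((SheafOfModules.toSheaf Y.ringCatSheaf).map φ) ≫ CohPull.theta g N =
      CohPull.theta g M ≫ (SheafOfModules.toSheaf X.ringCatSheaf).map ((Scheme.Modules.pullback g).map φ) := by
  rw [CohPull.theta, CohPull.theta, ← Adjunction.homEquiv_naturality_left_symm]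
  refine Eq.trans ?_ (Adjunction.homEquiv_naturality_right_symm _ _ _)
  congr 1
  exact ((toAb_map_comp _ _).symm.trans
    (congrArg _ ((Scheme.Modules.pullbackPushforwardAdjunction g).unit.naturality φ))).trans (toAb_map_comp _ _)

theorem theta_counit (g : X ⟶ Y) (G : X.Modules) :
    CohPull.theta g ((Scheme.Modules.pushforward g).obj G) ≫
        (SheafOfModules.toSheaf X.ringCatSheaf).map
          ((Scheme.Modules.pullbackPushforwardAdjunction g).counit.app G) =
      (CohPull.invPushAdj g.base).counit.app (Coh.toAb G) := by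
  rw [CohPull.theta, ← Adjunction.homEquiv_naturality_right_symm, Equiv.symm_apply_eq,
    Adjunction.homEquiv_unit]
  refine ((toAb_map_comp _ _).symm.trans
    (congrArg _ ((Scheme.Modules.pullbackPushforwardAdjunction g).right_triangle_components G))).trans ?_
  refine ((SheafOfModules.toSheaf Y.ringCatSheaf).map_id _).trans ?_
  exact ((CohPull.invPushAdj g.base).right_triangle_components (Coh.toAb G)).symm

theorem pullMod_apply (g : X ⟶ Y) (M : Y.Modules) (p : ℕ) (x : Coh.HH Y M p) :
    CohPull.pullMod g M p x = Sheaf.H.map (CohPull.theta g M) p (CohPull.pullAb g.base (Coh.toAb M) p x) := by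
  simp only [CohPull.pullMod, AddMonoidHom.coe_comp, Function.comp_apply]

theorem mapH_apply {M N : X.Modules} (φ : M ⟶ N) (p : ℕ) (x : Coh.HH X M p) :
    CohPull.mapH φ p x = Sheaf.H.map ((SheafOfModules.toSheaf X.ringCatSheaf).map φ) p x := rfl

theorem mapH_comp {L M N : X.Modules} (a : L ⟶ M) (b : M ⟶ N) (p : ℕ) (x : Coh.HH X L p) :
    CohPull.mapH (a ≫ b) p x = CohPull.mapH b p (CohPull.mapH a p x) := by
  exact (congrArg (fun t => Sheaf.H.map t p x) (toAb_map_comp a b)).trans (Sheaf.H.map_comp_apply _ _ _)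

theorem mapH_id {L : X.Modules} (p : ℕ) (x : Coh.HH X L p) : CohPull.mapH (𝟙 L) p x = x := by
  exact (congrArg (fun t => Sheaf.H.map t p x) ((SheafOfModules.toSheaf X.ringCatSheaf).map_id L)).trans
    (Sheaf.H.map_id_apply _)

theorem pullMod_natural (g : X ⟶ Y) {M N : Y.Modules} (φ : M ⟶ N) (p : ℕ) (x : Coh.HH Y M p) :
    CohPull.pullMod g N p (CohPull.mapH φ p x) =
      CohPull.mapH ((Scheme.Modules.pullback g).map φ) p (CohPull.pullMod g M p x) := by
  rw [mapH_apply, mapH_apply, pullMod_apply, pullMod_apply, pullAb_natural, ← Sheaf.H.map_comp_apply,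
    ← Sheaf.H.map_comp_apply, theta_natural]

theorem pushEdge_apply (g : X ⟶ Y) (G : X.Modules) (p : ℕ)
    (x : Coh.HH Y ((Scheme.Modules.pushforward g).obj G) p) :
    CohPull.pushEdge g G p x =
      Sheaf.H.map ((CohPull.invPushAdj g.base).counit.app (Coh.toAb G)) p
        (CohPull.pullAb g.base (Coh.toAb ((Scheme.Modules.pushforward g).obj G)) p x) := by
  exact (Sheaf.H.map_comp_apply _ _ _).symm.trans
    (congrArg (fun t => Sheaf.H.map t p (CohPull.pullAb g.base _ p x)) (theta_counit g G))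

theorem pushEdge_natural (g : X ⟶ Y) {G G' : X.Modules} (φ : G ⟶ G') (p : ℕ)
    (x : Coh.HH Y ((Scheme.Modules.pushforward g).obj G) p) :
    CohPull.pushEdge g G' p (CohPull.mapH ((Scheme.Modules.pushforward g).map φ) p x) =
      CohPull.mapH φ p (CohPull.pushEdge g G p x) := by
  show CohPull.mapH _ p (CohPull.pullMod g _ p (CohPull.mapH _ p x)) =
    CohPull.mapH φ p (CohPull.mapH _ p (CohPull.pullMod g _ p x))
  exact (congrArg (CohPull.mapH _ p) (pullMod_natural g _ p x)).trans
    ((mapH_comp _ _ p _).symm.trans ((congrArg (fun t => CohPull.mapH t p (CohPull.pullMod g _ p x))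
      ((Scheme.Modules.pullbackPushforwardAdjunction g).counit.naturality φ)).trans (mapH_comp _ _ p _)))

/-- `pullMod` is the edge map after the unit. -/
theorem pullMod_eq_pushEdge (g : X ⟶ Y) (M : Y.Modules) (p : ℕ) (x : Coh.HH Y M p) :
    CohPull.pullMod g M p x = CohPull.pushEdge g ((Scheme.Modules.pullback g).obj M) p
      (CohPull.mapH ((Scheme.Modules.pullbackPushforwardAdjunction g).unit.app M) p x) := by
  show _ = CohPull.mapH _ p (CohPull.pullMod g _ p (CohPull.mapH _ p x))
  exact ((congrArg (CohPull.mapH _ p) (pullMod_natural g _ p x)).trans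
    ((mapH_comp _ _ p _).symm.trans ((congrArg (fun t => CohPull.mapH t p (CohPull.pullMod g M p x))
      ((Scheme.Modules.pullbackPushforwardAdjunction g).left_triangle_components M)).trans (mapH_id p _)))).symm

/-- The edge map is bijective when the higher direct images of the underlying sheaf vanish. -/
theorem pushEdge_bijective_of_RpushAb (g : X ⟶ Y) (G : X.Modules)
    (hG : ∀ q : ℕ, IsZero ((Coh.RpushAb g (q + 1)).obj (Coh.toAb G))) (p : ℕ) :
    Function.Bijective (CohPull.pushEdge g G p) := by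
  haveI : (CohTop.push g.base).Additive := Functor.additive_of_preserves_binary_products _
  have hb := GrothLib.ExtAdj.bijective_adjMap (CohPull.invPushAdj g.base)
    (CohTop.const Y (ULift.{u} ℤ)) p (Coh.toAb G) hG
  have he : ⇑(CohPull.pushEdge g G p) =
      (fun t : Ext.{u} ((CohPull.inv g.base).obj (CohTop.const Y (ULift.{u} ℤ))) (Coh.toAb G) p =>
        (Ext.mk₀ (CohPull.oneTo g.base)).comp t (zero_add p)) ∘
      ⇑(GrothLib.ExtAdj.adjMap (CohPull.invPushAdj g.base) (CohTop.const Y (ULift.{u} ℤ)) (Coh.toAb G) p) := by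
    funext x
    rw [pushEdge_apply]
    exact Ext.comp_assoc_of_third_deg_zero _ _ _ (zero_add p)
  rw [he]
  exact (precomp_oneTo_bijective g.base (Coh.toAb G) p).comp hb

theorem isZero_RpushAb_of_isZero_Rpush (g : X ⟶ Y) [HasInjectiveResolutions X.Modules] (G : X.Modules)
    (q : ℕ) (h : IsZero ((Coh.Rpush g q).obj G)) : IsZero ((Coh.RpushAb g q).obj (Coh.toAb G)) := by
  obtain ⟨I⟩ := Cohom.nonempty_flRes G
  obtain ⟨e₁⟩ := Cohom.nonempty_Rpush_iso g I q
  obtain ⟨e₂⟩ := Cohom.nonempty_homology_iso_RpushAb g I q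
  exact ((SheafOfModules.toSheaf Y.ringCatSheaf).map_isZero (h.of_iso e₁.symm)).of_iso e₂.symm

theorem pushEdge_bijective_of_isAffineHom (g : X ⟶ Y) [IsAffineHom g] (G : X.Modules) [G.IsQuasicoherent] (p : ℕ) :
    Function.Bijective (CohPull.pushEdge g G p) :=
  pushEdge_bijective_of_RpushAb g G
    (fun q => Cohom.isZero_RpushAb_of_acyclicOn g _ (Cohom.acyclicOn_of_isAffineHom g G) q) p

end Sch

end GrothLib.CohPullLib
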