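import Groth.Agent.Lib.CohPullLib.Edge
import Groth.Agent.Lib.PullH25.Ext
import Groth.Agent.Lib.SheafCoh.PushInj

/-! # Pullback of cohomology classes along a composite -/

set_option autoImplicit false
set_option backward.isDefEq.respectTransparency false
set_option linter.style.haveILetI false
universe u

open CategoryTheory CategoryTheory.Limits AlgebraicGeometry TopologicalSpace Opposite CategoryTheory.Abelian

namespace GrothLib.CohPullLib

section Top

variable {X Y Z : TopCat.{u}} (f : X ⟶ Y) (g : Y ⟶ Z)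

/-- `f⁻¹ g⁻¹ = (f ≫ g)⁻¹`. -/
noncomputable def invComp : CohPull.inv g ⋙ CohPull.inv f ≅ CohPull.inv (f ≫ g) :=
  Adjunction.leftAdjointUniq ((CohPull.invPushAdj g).comp (CohPull.invPushAdj f)) (CohPull.invPushAdj (f ≫ g))

theorem unit_invComp (M : CohTop.Ab Z) :
    (CohPull.invPushAdj g).unit.app M ≫ (CohTop.push g).map ((CohPull.invPushAdj f).unit.app ((CohPull.inv g).obj M) ≫
      (CohTop.push f).map ((invComp f g).hom.app M)) = (CohPull.invPushAdj (f ≫ g)).unit.app M := by
  refine Eq.trans ?_ (Adjunction.unit_leftAdjointUniq_hom_app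
    ((CohPull.invPushAdj g).comp (CohPull.invPushAdj f)) (CohPull.invPushAdj (f ≫ g)) M)
  rw [Functor.map_comp, ← Category.assoc, Adjunction.comp_unit_app]
  rfl

theorem oneTo_comp :
    CohPull.oneTo f ≫ (CohPull.inv f).map (CohPull.oneTo g) ≫ (invComp f g).hom.app _ =
      CohPull.oneTo (f ≫ g) := by
  apply ((CohPull.adjZ X).homEquiv _ _).injective
  rw [Adjunction.homEquiv_naturality_right]
  have e : ∀ {W W' : TopCat.{u}} (h : W ⟶ W'), (CohPull.adjZ W).homEquiv _ _ (CohPull.oneTo h) =
      CohPull.oneSec W' ≫ ((CohPull.invPushAdj h).unit.app (CohTop.const W' (ULift.{u} ℤ))).hom.app (op ⊤) :=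
    fun h => Equiv.apply_symm_apply _ _
  rw [e f, e (f ≫ g), ← unit_invComp f g]
  have h1 : (CohPull.invPushAdj f).unit.app (CohTop.const Y (ULift.{u} ℤ)) ≫
      (CohTop.push f).map ((CohPull.inv f).map (CohPull.oneTo g) ≫ (invComp f g).hom.app _) =
      CohPull.oneTo g ≫ (CohPull.invPushAdj f).unit.app _ ≫ (CohTop.push f).map ((invComp f g).hom.app _) := by
    rw [Functor.map_comp, ← Category.assoc, ← Category.assoc]
    exact congrArg (fun t => t ≫ _) ((CohPull.invPushAdj f).unit.naturality (CohPull.oneTo g)).symm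
  have h2 : CohPull.oneSec Y ≫ (CohPull.oneTo g).hom.app (op ⊤) =
      CohPull.oneSec Z ≫ ((CohPull.invPushAdj g).unit.app (CohTop.const Z (ULift.{u} ℤ))).hom.app (op ⊤) := by
    rw [← e g]
    exact (((CohPull.adjZ Y).homEquiv_naturality_right (𝟙 _) (CohPull.oneTo g)).symm.trans
      (congrArg _ (Category.id_comp _)))
  refine (Category.assoc _ _ _).trans ?_
  refine (congrArg (fun t => CohPull.oneSec Y ≫ t.hom.app (op ⊤)) h1).trans ?_
  refine (Category.assoc _ _ _).symm.trans ?_
  refine (congrArg (fun t => t ≫ _) h2).trans ?_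
  exact Category.assoc _ _ _

theorem pullAb_comp (M : CohTop.Ab Z) (p : ℕ) (x : Sheaf.H M p) :
    Sheaf.H.map ((invComp f g).hom.app M) p (CohPull.pullAb f _ p (CohPull.pullAb g M p x)) =
      CohPull.pullAb (f ≫ g) M p x := by
  haveI : PreservesFiniteLimits (CohPull.inv g ⋙ CohPull.inv f) := comp_preservesFiniteLimits _ _
  haveI : PreservesFiniteColimits (CohPull.inv g ⋙ CohPull.inv f) := comp_preservesFiniteColimits _ _
  haveI := SheafCoh.enoughInjectivesAb (J := Opens.grothendieckTopology Z)
  rw [pullAb_apply, pullAb_apply, pullAb_apply]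
  let y : Ext.{u} (CohTop.const Z (ULift.{u} ℤ)) M p := x
  show ((Ext.mk₀ (CohPull.oneTo f)).comp (((Ext.mk₀ (CohPull.oneTo g)).comp (y.mapExactFunctor (CohPull.inv g))
      (zero_add p)).mapExactFunctor (CohPull.inv f)) (zero_add p)).comp (Ext.mk₀ ((invComp f g).hom.app M)) (add_zero p) =
    (Ext.mk₀ (CohPull.oneTo (f ≫ g))).comp (y.mapExactFunctor (CohPull.inv (f ≫ g))) (zero_add p)
  rw [Ext.mapExactFunctor_comp, Ext.mapExactFunctor_mk₀, PullH25.mapExactFunctor_mapExactFunctor,
    ← oneTo_comp f g]
  have hn := PullH25.mapExactFunctor_natTrans (F := CohPull.inv g ⋙ CohPull.inv f) (CohPull.inv (f ≫ g))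
    (invComp f g).hom y
  refine (Ext.comp_assoc_of_third_deg_zero _ _ _ (zero_add p)).trans ?_
  refine Eq.trans ?_ (congrArg (fun t => Ext.comp t _ (zero_add p)) (Ext.mk₀_comp_mk₀ _ _))
  refine Eq.trans ?_ (Ext.comp_assoc _ _ _ (add_zero 0) (zero_add p) (by omega)).symm
  refine congrArg (fun t => (Ext.mk₀ (CohPull.oneTo f)).comp t (zero_add p)) ?_
  refine (Ext.comp_assoc_of_third_deg_zero _ _ _ (zero_add p)).trans ?_
  refine Eq.trans ?_ (congrArg (fun t => Ext.comp t _ (zero_add p)) (Ext.mk₀_comp_mk₀ _ _))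
  refine Eq.trans ?_ (Ext.comp_assoc _ _ _ (add_zero 0) (zero_add p) (by omega)).symm
  exact congrArg (fun t => (Ext.mk₀ ((CohPull.inv f).map (CohPull.oneTo g))).comp t (zero_add p)) hn.symm

end Top

section Sch

variable {X Y Z : Scheme.{u}} (f : X ⟶ Y) (g : Y ⟶ Z)

theorem theta_comp (M : Z.Modules) :
    (invComp f.base g.base).hom.app (Coh.toAb M) ≫ CohPull.theta (f ≫ g) M =
      (CohPull.inv f.base).map (CohPull.theta g M) ≫ CohPull.theta f ((Scheme.Modules.pullback g).obj M) ≫
        (SheafOfModules.toSheaf X.ringCatSheaf).map ((Scheme.Modules.pullbackComp f g).hom.app M) := by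
  apply (((CohPull.invPushAdj g.base).comp (CohPull.invPushAdj f.base)).homEquiv _ _).injective
  rw [Adjunction.homEquiv_unit, Adjunction.homEquiv_unit, Functor.map_comp, Adjunction.comp_unit_app]
  have hθ : ∀ {V W : Scheme.{u}} (h : V ⟶ W) (N : W.Modules),
      (CohPull.invPushAdj h.base).unit.app (Coh.toAb N) ≫ (CohTop.push h.base).map (CohPull.theta h N) =
        (SheafOfModules.toSheaf W.ringCatSheaf).map ((Scheme.Modules.pullbackPushforwardAdjunction h).unit.app N) :=
    fun h N => ((CohPull.invPushAdj h.base).homEquiv_unit _ _ _).symm.trans (Equiv.apply_symm_apply _ _)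
  have hm : (Scheme.Modules.pullbackPushforwardAdjunction g).unit.app M ≫ (Scheme.Modules.pushforward g).map
      ((Scheme.Modules.pullbackPushforwardAdjunction f).unit.app ((Scheme.Modules.pullback g).obj M) ≫
        (Scheme.Modules.pushforward f).map ((Scheme.Modules.pullbackComp f g).hom.app M)) =
      (Scheme.Modules.pullbackPushforwardAdjunction (f ≫ g)).unit.app M := by
    have h := unit_conjugateEquiv
      ((Scheme.Modules.pullbackPushforwardAdjunction g).comp (Scheme.Modules.pullbackPushforwardAdjunction f))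
      (Scheme.Modules.pullbackPushforwardAdjunction (f ≫ g)) (Scheme.Modules.pullbackComp f g).inv M
    rw [Scheme.Modules.conjugateEquiv_pullbackComp_inv, Adjunction.comp_unit_app] at h
    have h' := congrArg (fun t => t ≫ (Scheme.Modules.pushforward (f ≫ g)).map
      ((Scheme.Modules.pullbackComp f g).hom.app M)) h
    simp only [Category.assoc] at h'
    rw [← Functor.map_comp, Iso.inv_hom_id_app] at h'
    refine Eq.trans ?_ (h'.trans ((congrArg (fun t => _ ≫ t) ((Scheme.Modules.pushforward (f ≫ g)).map_id _)).trans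
      (Category.comp_id _)))
    rw [Functor.map_comp]
    rfl
  refine (Category.assoc _ _ _).trans ?_
  refine Eq.trans ?_ (Category.assoc _ _ _).symm
  refine Eq.trans (b := (SheafOfModules.toSheaf Z.ringCatSheaf).map
    ((Scheme.Modules.pullbackPushforwardAdjunction (f ≫ g)).unit.app M)) ?_ ?_
  · refine Eq.trans ?_ (hθ (f ≫ g) M)
    show (CohPull.invPushAdj g.base).unit.app _ ≫ (CohTop.push g.base).map _ ≫
      (CohTop.push g.base).map ((CohTop.push f.base).map _) ≫
      (CohTop.push g.base).map ((CohTop.push f.base).map _) = _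
    rw [← Functor.map_comp, ← Functor.map_comp, ← Category.assoc ((CohPull.invPushAdj f.base).unit.app _),
      Functor.map_comp, ← Category.assoc, unit_invComp f.base g.base]
    rfl
  · rw [← hm, toAb_map_comp]
    symm
    show (CohPull.invPushAdj g.base).unit.app _ ≫ (CohTop.push g.base).map _ ≫
      (CohTop.push g.base).map ((CohTop.push f.base).map _) = _
    rw [← Functor.map_comp, Functor.map_comp (CohTop.push f.base), ← Category.assoc ((CohPull.invPushAdj f.base).unit.app _)]
    refine (congrArg (fun t => (CohPull.invPushAdj g.base).unit.app _ ≫ (CohTop.push g.base).map (t ≫ _))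
      ((CohPull.invPushAdj f.base).unit.naturality (CohPull.theta g M)).symm).trans ?_
    rw [Category.assoc, Functor.map_comp (CohTop.push f.base), ← Category.assoc ((CohPull.invPushAdj f.base).unit.app _),
      hθ f, Functor.map_comp, ← Category.assoc]
    refine (congrArg (fun t => t ≫ _) (hθ g M)).trans ?_
    refine congrArg (fun t => _ ≫ t) ?_
    exact congrArg (CohTop.push g.base).map (toAb_map_comp
      ((Scheme.Modules.pullbackPushforwardAdjunction f).unit.app ((Scheme.Modules.pullback g).obj M))
      ((Scheme.Modules.pushforward f).map ((Scheme.Modules.pullbackComp f g).hom.app M))).symm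

/-- **Pullback of classes along a composite.** -/
theorem pullMod_comp (M : Z.Modules) (p : ℕ) (x : Coh.HH Z M p) :
    CohPull.mapH ((Scheme.Modules.pullbackComp f g).hom.app M) p
        (CohPull.pullMod f ((Scheme.Modules.pullback g).obj M) p (CohPull.pullMod g M p x)) =
      CohPull.pullMod (f ≫ g) M p x := by
  rw [mapH_apply, pullMod_apply, pullMod_apply, pullMod_apply, pullAb_natural, ← Sheaf.H.map_comp_apply]
  refine (Sheaf.H.map_comp_apply ((CohPull.inv f.base).map (CohPull.theta g M) ≫
      CohPull.theta f ((Scheme.Modules.pullback g).obj M))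
    ((SheafOfModules.toSheaf X.ringCatSheaf).map ((Scheme.Modules.pullbackComp f g).hom.app M)) _).symm.trans ?_
  refine (congrArg (fun t => Sheaf.H.map t p _) ((Category.assoc _ _ _).trans (theta_comp f g M).symm)).trans ?_
  refine (Sheaf.H.map_comp_apply _ _ _).trans ?_
  exact congrArg (Sheaf.H.map (CohPull.theta (f ≫ g) M) p) (pullAb_comp f.base g.base (Coh.toAb M) p x)

/-- Pullback of classes along equal morphisms. -/
theorem pullMod_congr {f' : X ⟶ Y} (h : f = f') (M : Y.Modules) (p : ℕ) (x : Coh.HH Y M p) :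
    CohPull.mapH ((Scheme.Modules.pullbackCongr h).hom.app M) p (CohPull.pullMod f M p x) =
      CohPull.pullMod f' M p x := by
  subst h
  exact mapH_id p _

end Sch

end GrothLib.CohPullLib
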