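import Groth.Agent.Lib.CohPullLib.SectCmp
import Groth.Agent.Lib.BCCoh.RpushAffine

/-! # Linearity of the comparison over an affine base -/

set_option autoImplicit false
set_option backward.isDefEq.respectTransparency false
set_option linter.style.haveILetI false
universe u

open CategoryTheory CategoryTheory.Limits AlgebraicGeometry TopologicalSpace Opposite CategoryTheory.Abelian

namespace GrothLib.CohPullLib

variable {X Y : Scheme.{u}} (f : X ⟶ Y) [HasInjectiveResolutions X.Modules]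
  {Δ : RDer.DerivedLES (Scheme.Modules.pushforward f)} (E : CohCmp.SectCmp f Δ)

/-- The comparison is linear over the functions on an affine open. -/
theorem eps_smul {V : Y.Opens} (hV : IsAffineOpen V) (a : Γ(Y, V)) (p : ℕ) :
    ∀ (F : X.Modules) (x : Coh.HHon X F (f ⁻¹ᵁ V) p),
      letI := BCCoh.modHH (A := Γ(Y, V)) (BCCoh.affBase f hV) (F.restrict (f ⁻¹ᵁ V).ι) p
      E.ε V F p (a • x) = a • E.ε V F p x := by
  induction p with
  | zero =>
    intro F x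
    letI := BCCoh.modHH (A := Γ(Y, V)) (BCCoh.affBase f hV) (F.restrict (f ⁻¹ᵁ V).ι) 0
    obtain ⟨s, rfl⟩ := (CohPull.sectH0 F (f ⁻¹ᵁ V)).surjective x
    have e : a • CohPull.sectH0 F (f ⁻¹ᵁ V) s = CohPull.sectH0 F (f ⁻¹ᵁ V) (f.app V a • s) := by
      apply (Sheaf.H.equiv₀ (Coh.toAb (F.restrict (f ⁻¹ᵁ V).ι)) isTerminalTop).injective
      refine (Sheaf.H.equiv₀_naturality isTerminalTop
        (Coh.smulAb (F.restrict (f ⁻¹ᵁ V).ι) (Coh.toGlobal (BCCoh.affBase f hV) a))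
        (CohPull.sectH0 F (f ⁻¹ᵁ V) s)).symm.trans ?_
      rw [sectH0_symm_apply, sectH0_symm_apply]
      refine (Coh.smulAb_app _ _ (op ⊤) _).trans ?_
      refine Eq.trans ?_ (Scheme.Modules.map_smul F (homOfLE (f ⁻¹ᵁ V).ι_image_top.le) (f.app V a) s).symm
      show ((f ⁻¹ᵁ V).ι.appIso ⊤).inv
          ((((f ⁻¹ᵁ V : X.Opens) : Scheme.{u}).presheaf.map (𝟙 _)) (Coh.toGlobal (BCCoh.affBase f hV) a)) •
        F.presheaf.map (homOfLE (f ⁻¹ᵁ V).ι_image_top.le).op s = _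
      congr 1
      rw [CategoryTheory.Functor.map_id]
      exact BCCoh.toGlobal_affBase f hV a
    rw [e, E.zero, E.zero]
    exact Scheme.Modules.Hom.app_smul ((Scheme.Modules.pushforward f).toRightDerivedZero.app F) a s
  | succ p ih =>
    intro F x
    obtain ⟨S, hS, rfl, hI⟩ := exists_ses F
    obtain ⟨z, rfl⟩ := exists_extδ_eq hS hI (f ⁻¹ᵁ V) p x
    letI := BCCoh.modHH (A := Γ(Y, V)) (BCCoh.affBase f hV) (S.X₁.restrict (f ⁻¹ᵁ V).ι) (p + 1)
    letI := BCCoh.modHH (A := Γ(Y, V)) (BCCoh.affBase f hV) (S.X₃.restrict (f ⁻¹ᵁ V).ι) p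
    have hA := toAbOn_shortExact (f ⁻¹ᵁ V) hS
    let r := Coh.toGlobal (BCCoh.affBase f hV) a
    let φ : S.map (CohCmp.toAbOn X (f ⁻¹ᵁ V)) ⟶ S.map (CohCmp.toAbOn X (f ⁻¹ᵁ V)) :=
      { τ₁ := Coh.smulAb (S.X₁.restrict (f ⁻¹ᵁ V).ι) r
        τ₂ := Coh.smulAb (S.X₂.restrict (f ⁻¹ᵁ V).ι) r
        τ₃ := Coh.smulAb (S.X₃.restrict (f ⁻¹ᵁ V).ι) r
        comm₁₂ := Cohom.smulAb_naturality ((Scheme.Modules.restrictFunctor (f ⁻¹ᵁ V).ι).map S.f) r
        comm₂₃ := Cohom.smulAb_naturality ((Scheme.Modules.restrictFunctor (f ⁻¹ᵁ V).ι).map S.g) r }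
    have key : hA.extClass.comp (Ext.mk₀ (Coh.smulAb (S.X₁.restrict (f ⁻¹ᵁ V).ι) r)) (add_zero 1) =
        (Ext.mk₀ (Coh.smulAb (S.X₃.restrict (f ⁻¹ᵁ V).ι) r)).comp hA.extClass (zero_add 1) :=
      ShortComplex.ShortExact.extClass_naturality hA hA φ
    have e : a • (show Coh.HHon X S.X₁ (f ⁻¹ᵁ V) (p + 1) from CohCmp.extδ hA p z) = CohCmp.extδ hA p (a • z) := by
      refine (Ext.comp_assoc_of_third_deg_zero (show Ext.{u} _ _ p from z) hA.extClass _
        (rfl : p + 1 = p + 1)).trans ?_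
      refine (congrArg (fun t => Ext.comp (show Ext.{u} _ _ p from z) t (rfl : p + 1 = p + 1)) key).trans ?_
      exact (Ext.comp_assoc_of_second_deg_zero _ _ _ _).symm
    rw [e, E.delta V S hS, E.delta V S hS, ih S.X₃ z]
    exact Scheme.Modules.Hom.app_smul (Δ.δ S hS p (p + 1) rfl) a _

end GrothLib.CohPullLib
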