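import Groth.Agent.Lib.CohPullLib.SectCmp
import Groth.Agent.Lib.Cohom.RpushSections

/-! # The two models of cohomology on an open, and bijectivity of the comparison on affines -/

set_option autoImplicit false
set_option backward.isDefEq.respectTransparency false
set_option linter.style.haveILetI false
universe u

open CategoryTheory CategoryTheory.Limits AlgebraicGeometry TopologicalSpace Opposite CategoryTheory.Abelian

namespace GrothLib.CohPullLib

variable {X Y : Scheme.{u}}

/-- Restriction of abelian sheaves to an open. -/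
noncomputable abbrev rFun (U : X.Opens) : Cohom.AbSheaf X ⥤ Cohom.AbSheaf (U : Scheme.{u}) :=
  Cohom.restrFun (Scheme.Hom.isOpenEmbedding U.ι)

instance rFun_additive (U : X.Opens) : (rFun U).Additive where
  map_add := by
    intros
    rfl

theorem rFun_exact (U : X.Opens) : PreservesFiniteLimits (rFun U) ∧ PreservesFiniteColimits (rFun U) :=
  ((rFun U).exact_tfae.out 0 3
    (a := ∀ (T : ShortComplex (Cohom.AbSheaf X)), T.ShortExact → (T.map (rFun U)).ShortExact)
    (b := PreservesFiniteLimits (rFun U) ∧ PreservesFiniteColimits (rFun U))).1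
      fun _ hT => Cohom.restrFun_map_shortExact _ hT

instance (U : X.Opens) : PreservesFiniteLimits (rFun U) := (rFun_exact U).1

instance (U : X.Opens) : PreservesFiniteColimits (rFun U) := (rFun_exact U).2

/-- The canonical map of the constant sheaf to the restricted free sheaf. -/
noncomputable def constTo (U : X.Opens) :
    CohTop.const (U : Scheme.{u}) (ULift.{u} ℤ) ⟶ (rFun U).obj (Cohom.freeFun.obj U) :=
  Cohom.freeTopIso.inv ≫ (Cohom.sectionsEquiv (⊤ : Opens (U : Scheme.{u})) _).symm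
    ((Cohom.freeFun.obj U).obj.map (homOfLE U.ι_image_top.le).op (Cohom.sectionsEquiv U _ (𝟙 _)))

/-- From `Ext` out of the free sheaf on `U` to cohomology of the restriction. -/
noncomputable def theta' (F : X.Modules) (U : X.Opens) (p : ℕ) :
    Ext.{u} (Cohom.freeFun.obj U) (Coh.toAb F) p →+ Coh.HHon X F U p :=
  ((Ext.mk₀ (constTo U)).precomp ((rFun U).obj (Coh.toAb F)) (zero_add p)).comp
    ((rFun U).mapExtAddHom (Cohom.freeFun.obj U) (Coh.toAb F) p)

theorem theta'_apply (F : X.Modules) (U : X.Opens) (p : ℕ) (x : Ext.{u} (Cohom.freeFun.obj U) (Coh.toAb F) p) :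
    theta' F U p x = (Ext.mk₀ (constTo U)).comp (x.mapExactFunctor (rFun U)) (zero_add p) := rfl

theorem addEquiv₀_mk₀' {C : Type*} [Category C] [Abelian C] [HasExt.{u} C] {A B : C} (g : A ⟶ B) :
    Ext.addEquiv₀ (Ext.mk₀ g) = g := by
  apply (Ext.mk₀_bijective _ _).1
  simp [Ext.addEquiv₀, Ext.mk₀_homEquiv₀_apply]
theorem equiv₀_freeTopIso_inv {T : TopCat.{u}} {G : Cohom.AbSheaf T} (χ : Cohom.freeFun.obj (⊤ : Opens T) ⟶ G) :
    Sheaf.H.equiv₀ G isTerminalTop (Ext.mk₀ (Cohom.freeTopIso.inv ≫ χ)) = Cohom.sectionsEquiv ⊤ G χ := by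
  have h : Sheaf.H.equiv₀ (Cohom.freeFun.obj (⊤ : Opens T)) isTerminalTop (Ext.mk₀ Cohom.freeTopIso.inv) =
      Cohom.sectionsEquiv ⊤ _ (𝟙 _) := by
    simp only [Sheaf.H.equiv₀, AddEquiv.trans_apply, addEquiv₀_mk₀', Cohom.freeTopIso]
    exact AddEquiv.apply_symm_apply (((constantSheafAdj (Opens.grothendieckTopology T) AddCommGrpCat.{u} (isTerminalTop (α := Opens T))).homAddEquiv (AddCommGrpCat.of (ULift.{u} ℤ)) (Cohom.freeFun.obj (⊤ : Opens T))).trans (AddCommGrpCat.uliftZMultiplesAddEquiv _)) _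
  rw [← Ext.mk₀_comp_mk₀]
  refine (Sheaf.H.equiv₀_naturality isTerminalTop χ _).symm.trans ?_
  rw [h, ← Cohom.sectionsEquiv_apply]

theorem theta'_zero (F : X.Modules) (U : X.Opens) (x : Ext.{u} (Cohom.freeFun.obj U) (Coh.toAb F) 0) :
    theta' F U 0 x = CohPull.sectH0 F U (Cohom.H0Equiv (Coh.toAb F) U x) := by
  obtain ⟨φ, rfl⟩ := (Ext.mk₀_bijective _ _).2 x
  apply (Sheaf.H.equiv₀ (Coh.toAb (F.restrict U.ι)) isTerminalTop).injective
  rw [sectH0_symm_apply, theta'_apply, Ext.mapExactFunctor_mk₀, Ext.mk₀_comp_mk₀, constTo, Category.assoc,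
    Cohom.H0Equiv_mk₀]
  refine (equiv₀_freeTopIso_inv _).trans ?_
  rw [Cohom.sectionsEquiv_comp, Equiv.apply_symm_apply, Cohom.sectionsEquiv_apply φ]
  exact ConcreteCategory.congr_hom (φ.hom.naturality (homOfLE U.ι_image_top.le).op) _

theorem theta'_natural {F G : X.Modules} (ψ : F ⟶ G) (U : X.Opens) (p : ℕ)
    (x : Ext.{u} (Cohom.freeFun.obj U) (Coh.toAb F) p) :
    theta' G U p (x.comp (Ext.mk₀ ((QCoh.toAbFun X).map ψ)) (add_zero p)) =
      CohPull.mapH ((Scheme.Modules.restrictFunctor U.ι).map ψ) p (theta' F U p x) := by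
  rw [theta'_apply, theta'_apply, Ext.mapExactFunctor_comp, Ext.mapExactFunctor_mk₀]
  exact (Ext.comp_assoc_of_third_deg_zero _ _ _ (zero_add p)).symm

theorem theta'_delta {S : ShortComplex X.Modules} (hS : S.ShortExact) (U : X.Opens) (p : ℕ)
    (x : Ext.{u} (Cohom.freeFun.obj U) (Coh.toAb S.X₃) p) :
    theta' S.X₁ U (p + 1) (x.comp (QCoh.toAbFun_map_shortExact S hS).extClass rfl) =
      CohCmp.extδ (toAbOn_shortExact U hS) p (theta' S.X₃ U p x) := by
  rw [theta'_apply, theta'_apply, Ext.mapExactFunctor_comp, Ext.mapExactFunctor_extClass]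
  exact (Ext.comp_assoc _ _ _ (zero_add p) rfl (by omega)).symm

theorem theta'_bijective [HasInjectiveResolutions X.Modules] (U : X.Opens) (p : ℕ) :
    ∀ F : X.Modules, Function.Bijective (theta' F U p) := by
  induction p with
  | zero =>
    intro F
    have e : ⇑(theta' F U 0) = ⇑(CohPull.sectH0 F U) ∘ ⇑(Cohom.H0Equiv (Coh.toAb F) U) :=
      funext fun x => theta'_zero F U x
    rw [e]
    exact (CohPull.sectH0 F U).bijective.comp (Cohom.H0Equiv (Coh.toAb F) U).bijective
  | succ p ih =>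
    intro F
    obtain ⟨S, hS, rfl, hI⟩ := exists_ses F
    have hSa := QCoh.toAbFun_map_shortExact S hS
    refine ⟨(injective_iff_map_eq_zero _).2 fun a ha => ?_, fun b => ?_⟩
    · have : TopCat.Sheaf.IsFlasque ((QCoh.toAbFun X).obj S.X₂) := Cohom.isFlasque_toAb_of_injective S.X₂
      have hsub := SheafCoh.flasque_HU_subsingleton ((QCoh.toAbFun X).obj S.X₂) p U
      obtain ⟨w, rfl⟩ := Ext.covariant_sequence_exact₁ _ hSa a
        (@Subsingleton.elim _ hsub _ _) rfl
      rw [theta'_delta hS] at ha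
      obtain ⟨v, hv⟩ := Ext.covariant_sequence_exact₃ _ (toAbOn_shortExact U hS) (theta' S.X₃ U p w) rfl ha
      obtain ⟨v, rfl⟩ := (ih S.X₂).2 v
      have : w = v.comp (Ext.mk₀ (S.map (QCoh.toAbFun X)).g) (add_zero p) :=
        (ih S.X₃).1 (hv.symm.trans (theta'_natural S.g U p v).symm)
      rw [this]
      refine (Ext.comp_assoc_of_second_deg_zero v _ hSa.extClass (rfl : p + 1 = p + 1)).trans ?_
      exact (congrArg (fun m => Ext.comp v m (rfl : p + 1 = p + 1)) hSa.comp_extClass).trans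
        (Ext.comp_zero _ _ _ _ _)
    · obtain ⟨z, rfl⟩ := exists_extδ_eq hS hI U p b
      obtain ⟨w, rfl⟩ := (ih S.X₃).2 z
      exact ⟨w.comp hSa.extClass rfl, theta'_delta hS U p w⟩

theorem theta'_res [HasInjectiveResolutions X.Modules] (p : ℕ) : ∀ (F : X.Modules) {U U' : X.Opens} (h : U' ≤ U)
    (x : Ext.{u} (Cohom.freeFun.obj U) (Coh.toAb F) p),
    CohPull.resLE F h p (theta' F U p x) = theta' F U' p (Cohom.res (Coh.toAb F) p h x) := by
  induction p with
  | zero =>
    intro F U U' h x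
    rw [theta'_zero, theta'_zero, resLE_sectH0, Cohom.H0Equiv_res]
    rfl
  | succ p ih =>
    intro F U U' h x
    obtain ⟨S, hS, rfl, hI⟩ := exists_ses F
    have : TopCat.Sheaf.IsFlasque ((QCoh.toAbFun X).obj S.X₂) := Cohom.isFlasque_toAb_of_injective S.X₂
    have hsub := SheafCoh.flasque_HU_subsingleton ((QCoh.toAbFun X).obj S.X₂) p U
    have hSa := QCoh.toAbFun_map_shortExact S hS
    obtain ⟨w, rfl⟩ := Ext.covariant_sequence_exact₁ _ hSa x (@Subsingleton.elim _ hsub _ _) rfl
    rw [theta'_delta hS, resLE_delta h S (toAbOn_shortExact _ hS) (toAbOn_shortExact _ hS), ih S.X₃ h w,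
      ← theta'_delta hS]
    exact congrArg (theta' S.X₁ U' (p + 1)) (Cohom.res_comp hSa.extClass rfl h w).symm

variable (f : X ⟶ Y) [HasInjectiveResolutions X.Modules] {Δ : RDer.DerivedLES (Scheme.Modules.pushforward f)}
  (E : CohCmp.SectCmp f Δ) (F : X.Modules) (p : ℕ)

/-- The comparison as a map of presheaves. -/
noncomputable def epsPresheaf :
    (Opens.map f.base).op ⋙ Sheaf.cohomologyPresheaf.{u} (Coh.toAb F) p ⟶
      (Coh.toAb ((Coh.Rpush f p).obj F)).obj where
  app V := AddCommGrpCat.ofHom ((E.ε V.unop F p).comp (theta' F (f ⁻¹ᵁ V.unop) p))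
  naturality {V W} i := by
    ext x
    show E.ε W.unop F p (theta' F _ p (Cohom.res (Coh.toAb F) p (f.preimage_mono i.unop.le) x)) =
      ((Coh.Rpush f p).obj F).presheaf.map (homOfLE i.unop.le).op (E.ε V.unop F p (theta' F _ p x))
    rw [← theta'_res p F (f.preimage_mono i.unop.le) x, eps_res f E p F i.unop.le]

theorem isLocallyInjective_epsPresheaf :
    Presheaf.IsLocallyInjective (Opens.grothendieckTopology Y) (epsPresheaf f E F p) := by
  constructor
  intro V x x' hxx y hy
  have h0 : E.ε V.unop F p (theta' F (f ⁻¹ᵁ V.unop) p (x - x')) = 0 := by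
    rw [map_sub, map_sub, sub_eq_zero]
    exact hxx
  obtain ⟨W, hWV, hyW, hW⟩ := (eps_locally f E p F V.unop).2 _ h0 y hy
  refine ⟨W, homOfLE hWV, ?_, hyW⟩
  rw [theta'_res p F (f.preimage_mono hWV), map_sub (Cohom.res _ p _), map_sub, sub_eq_zero] at hW
  exact (theta'_bijective (f ⁻¹ᵁ W) p F).1 hW

theorem isLocallySurjective_epsPresheaf :
    Presheaf.IsLocallySurjective (Opens.grothendieckTopology Y) (epsPresheaf f E F p) := by
  constructor
  intro V t y hy
  obtain ⟨W, hWV, hyW, x, hx⟩ := (eps_locally f E p F V).1 t y hy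
  obtain ⟨w, rfl⟩ := (theta'_bijective (f ⁻¹ᵁ W) p F).2 x
  exact ⟨W, homOfLE hWV, ⟨w, hx⟩, hyW⟩

include E in
/-- The comparison is bijective on affine opens. -/
theorem eps_bijective [QuasiCompact f] [QuasiSeparated f] [F.IsQuasicoherent] {V : Y.Opens}
    (hV : IsAffineOpen V) : Function.Bijective (E.ε V F p) := by
  obtain ⟨I⟩ := Cohom.nonempty_flRes F
  let c := Cohom.presheafToHomology f I p
  let e := epsPresheaf f E F p
  have := Cohom.isLocallyInjective_presheafToHomology f I p
  have := Cohom.isLocallySurjective_presheafToHomology f I p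
  have := isLocallyInjective_epsPresheaf f E F p
  have := isLocallySurjective_epsPresheaf f E F p
  have hc : (Opens.grothendieckTopology Y).W c := GrothendieckTopology.W_of_isLocallyBijective _ _
  have he : (Opens.grothendieckTopology Y).W e := GrothendieckTopology.W_of_isLocallyBijective _ _
  let H := Coh.toAb ((Cohom.pushCx f I.cocomplex).homology p)
  let R := Coh.toAb ((Coh.Rpush f p).obj F)
  obtain ⟨a, ha⟩ := (hc R.obj R.property).2 e
  obtain ⟨b, hb⟩ := (he H.obj H.property).2 c
  have hab : a ≫ b = 𝟙 H.obj := (hc H.obj H.property).1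
    (show c ≫ a ≫ b = c ≫ 𝟙 H.obj by rw [← Category.assoc]; simp only at ha hb ⊢; rw [ha, hb, Category.comp_id])
  have hba : b ≫ a = 𝟙 R.obj := (he R.obj R.property).1
    (show e ≫ b ≫ a = e ≫ 𝟙 R.obj by rw [← Category.assoc]; simp only at ha hb ⊢; rw [hb, ha, Category.comp_id])
  have : IsIso a := ⟨b, hab, hba⟩
  have he' : Function.Bijective (e.app (op V)) := by
    have h1 : e.app (op V) = c.app (op V) ≫ a.app (op V) := by
      simp only at ha
      rw [← NatTrans.comp_app, ha]
    have h2 : (⇑(ConcreteCategory.hom (c.app (op V) ≫ a.app (op V))) : _ → _) =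
        ⇑(ConcreteCategory.hom (a.app (op V))) ∘ ⇑(ConcreteCategory.hom (c.app (op V))) :=
      funext fun x => ConcreteCategory.comp_apply _ _ x
    rw [h1, h2]
    exact (ConcreteCategory.bijective_of_isIso (a.app (op V))).comp
      (Cohom.classToSection_bijective f I p hV)
  exact (Function.Bijective.of_comp_iff (E.ε V F p) (theta'_bijective (f ⁻¹ᵁ V) p F)).1 he'

end GrothLib.CohPullLib
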