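import Groth.Agent.Lib.CohPullLib.Edge
import Groth.Agent.Lib.CohPullLib.SecPull
import Groth.Prelude.Def_CohCmp

/-! # Restriction of cohomology classes between opens -/

set_option autoImplicit false
set_option backward.isDefEq.respectTransparency false
set_option linter.style.haveILetI false
universe u

open CategoryTheory CategoryTheory.Limits AlgebraicGeometry TopologicalSpace Opposite CategoryTheory.Abelian
open GrothLib.BCCoh (pullRes)

namespace GrothLib.CohPullLib

variable {X : Scheme.{u}} {U U' : X.Opens} (h : U' ≤ U)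

include h in
theorem le_id_preimage : U' ≤ 𝟙 X ⁻¹ᵁ U := by rwa [Scheme.Hom.id_preimage]

/-- The inclusion of `U'` into `U`. -/
noncomputable abbrev rMor : (U' : Scheme.{u}) ⟶ (U : Scheme.{u}) :=
  (𝟙 X : X ⟶ X).resLE U U' (le_id_preimage h)

/-- The identification of the pullback of `F|U` with `F|U'`. -/
noncomputable def resMor (F : X.Modules) :
    (Scheme.Modules.pullback (rMor h)).obj (F.restrict U.ι) ⟶ F.restrict U'.ι :=
  (CohPull.pullOnIso (𝟙 X) U U' (le_id_preimage h) F).hom ≫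
    (Scheme.Modules.restrictFunctor U'.ι).map ((Scheme.Modules.pullbackId X).hom.app F)

/-- The same, on abelian sheaves. -/
noncomputable def resAb (F : X.Modules) :
    (CohPull.inv (rMor h).base).obj ((CohCmp.toAbOn X U).obj F) ⟶ (CohCmp.toAbOn X U').obj F :=
  CohPull.theta (rMor h) (F.restrict U.ι) ≫
    (SheafOfModules.toSheaf (U' : Scheme.{u}).ringCatSheaf).map (resMor h F)

theorem resMor_natural {F G : X.Modules} (ψ : F ⟶ G) :
    (Scheme.Modules.pullback (rMor h)).map ((Scheme.Modules.restrictFunctor U.ι).map ψ) ≫ resMor h G =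
      resMor h F ≫ (Scheme.Modules.restrictFunctor U'.ι).map ψ := by
  let r := rMor h
  let T : Scheme.Modules.restrictFunctor U.ι ⋙ Scheme.Modules.pullback r ⟶
      Scheme.Modules.restrictFunctor U'.ι :=
    Functor.whiskerRight (Scheme.Modules.restrictFunctorIsoPullback U.ι).hom (Scheme.Modules.pullback r) ≫
      (Scheme.Modules.pullbackComp r U.ι).hom ≫
      (Scheme.Modules.pullbackCongr (Scheme.Hom.resLE_comp_ι (𝟙 X) (le_id_preimage h))).hom ≫
      (Scheme.Modules.pullbackComp U'.ι (𝟙 X)).inv ≫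
      Functor.whiskerLeft (Scheme.Modules.pullback (𝟙 X))
        (Scheme.Modules.restrictFunctorIsoPullback U'.ι).inv ≫
      Functor.whiskerRight (Scheme.Modules.pullbackId X).hom (Scheme.Modules.restrictFunctor U'.ι) ≫
      (Functor.leftUnitor _).hom
  have hT : ∀ H : X.Modules, T.app H = resMor h H := fun H => by
    simp only [T, resMor, CohPull.pullOnIso, NatTrans.comp_app, Iso.trans_hom, Functor.mapIso_hom,
      Iso.app_hom, Iso.symm_hom, Iso.app_inv, Functor.whiskerRight_app, Functor.whiskerLeft_app,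
      Functor.leftUnitor_hom_app, Category.assoc]
    first | rfl | simp
  rw [← hT, ← hT]
  exact T.naturality ψ

theorem resAb_natural {F G : X.Modules} (ψ : F ⟶ G) :
    (CohPull.inv (rMor h).base).map ((CohCmp.toAbOn X U).map ψ) ≫ resAb h G =
      resAb h F ≫ (CohCmp.toAbOn X U').map ψ := by
  rw [resAb, resAb, ← Category.assoc]
  refine (congrArg (fun t => t ≫ _) (theta_natural (rMor h) ((Scheme.Modules.restrictFunctor U.ι).map ψ))).trans ?_
  rw [Category.assoc, Category.assoc]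
  refine congrArg (fun t => CohPull.theta (rMor h) _ ≫ t) ?_
  exact ((toAb_map_comp _ _).symm.trans (congrArg _ (resMor_natural h ψ))).trans (toAb_map_comp _ _)

theorem resLE_apply (F : X.Modules) (p : ℕ) (x : Coh.HHon X F U p) :
    CohPull.resLE F h p x = CohPull.mapH (resMor h F) p (CohPull.pullMod (rMor h) (F.restrict U.ι) p x) :=
  (mapH_comp _ _ p _).symm

theorem resLE_eq (F : X.Modules) (p : ℕ) (x : Coh.HHon X F U p) :
    CohPull.resLE F h p x = Sheaf.H.map (resAb h F) p (CohPull.pullAb (rMor h).base _ p x) := by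
  rw [resLE_apply, mapH_apply, pullMod_apply, ← Sheaf.H.map_comp_apply]
  rfl

theorem resLE_natural {F G : X.Modules} (ψ : F ⟶ G) (p : ℕ) (x : Coh.HHon X F U p) :
    CohPull.resLE G h p (CohPull.mapH ((Scheme.Modules.restrictFunctor U.ι).map ψ) p x) =
      CohPull.mapH ((Scheme.Modules.restrictFunctor U'.ι).map ψ) p (CohPull.resLE F h p x) := by
  rw [resLE_apply, resLE_apply, pullMod_natural, ← mapH_comp, ← mapH_comp, resMor_natural]

theorem resLE_delta (S : ShortComplex X.Modules) (hA : (S.map (CohCmp.toAbOn X U)).ShortExact)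
    (hA' : (S.map (CohCmp.toAbOn X U')).ShortExact) (p : ℕ) (x : Coh.HHon X S.X₃ U p) :
    CohPull.resLE S.X₁ h (p + 1) (CohCmp.extδ hA p x) = CohCmp.extδ hA' p (CohPull.resLE S.X₃ h p x) := by
  let L := CohPull.inv (rMor h).base
  let φ : (S.map (CohCmp.toAbOn X U)).map L ⟶ S.map (CohCmp.toAbOn X U') :=
    { τ₁ := resAb h S.X₁
      τ₂ := resAb h S.X₂
      τ₃ := resAb h S.X₃
      comm₁₂ := (resAb_natural h S.f).symm
      comm₂₃ := (resAb_natural h S.g).symm }
  have key : (hA.map_of_exact L).extClass.comp (Ext.mk₀ (resAb h S.X₁)) (add_zero 1) =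
      (Ext.mk₀ (resAb h S.X₃)).comp hA'.extClass (zero_add 1) :=
    ShortComplex.ShortExact.extClass_naturality (hA.map_of_exact L) hA' φ
  rw [resLE_eq, resLE_eq]
  refine (congrArg (Sheaf.H.map (resAb h S.X₁) (p + 1)) (pullAb_extClass (rMor h).base hA p x)).trans ?_
  refine (Ext.comp_assoc_of_third_deg_zero _ _ _ rfl).trans ?_
  refine (congrArg (fun t => Ext.comp (CohPull.pullAb (rMor h).base _ p x) t
    (rfl : p + 1 = p + 1)) key).trans ?_
  exact (Ext.comp_assoc_of_second_deg_zero _ _ _ _).symm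

theorem sectH0_symm_apply (F : X.Modules) (U : X.Opens) (s : Γ(F, U)) :
    Sheaf.H.equiv₀ (Coh.toAb (F.restrict U.ι)) isTerminalTop (CohPull.sectH0 F U s) =
      F.presheaf.map (homOfLE U.ι_image_top.le).op s :=
  (AddEquiv.apply_symm_apply _ _).trans rfl

theorem resLE_sectH0 (F : X.Modules) (s : Γ(F, U)) :
    CohPull.resLE F h 0 (CohPull.sectH0 F U s) =
      CohPull.sectH0 F U' (F.presheaf.map (homOfLE h).op s) := by
  apply (Sheaf.H.equiv₀ (Coh.toAb (F.restrict U'.ι)) isTerminalTop).injective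
  rw [sectH0_symm_apply, resLE_apply, mapH_apply, ← Sheaf.H.equiv₀_naturality, CohPull.equiv₀_pullMod,
    sectH0_symm_apply, map_map_sec]
  have e₁ : (⊤ : (U' : Scheme.{u}).Opens) ≤ rMor h ⁻¹ᵁ ⊤ := le_rfl
  have hU : (⊤ : (U : Scheme.{u}).Opens) ≤ U.ι ⁻¹ᵁ U := fun x _ => x.2
  have hU' : (⊤ : (U' : Scheme.{u}).Opens) ≤ U'.ι ⁻¹ᵁ U' := fun x _ => x.2
  have hc : (⊤ : (U' : Scheme.{u}).Opens) ≤ (rMor h ≫ U.ι) ⁻¹ᵁ U := fun x _ => hU trivial
  have hc' : (⊤ : (U' : Scheme.{u}).Opens) ≤ (U'.ι ≫ 𝟙 X) ⁻¹ᵁ U := fun x _ => le_id_preimage h x.2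
  show (resMor h F).app ⊤ (((Scheme.Modules.pullbackPushforwardAdjunction (rMor h)).unit.app (F.restrict U.ι)).app ⊤
    (F.presheaf.map (homOfLE U.ι_image_top.le).op s)) = _
  refine (congrArg ((resMor h F).app ⊤) ((map_sec_self ((Scheme.Modules.pullback (rMor h)).obj (F.restrict U.ι))
    e₁ _).symm.trans (pullRes_def (rMor h) (F.restrict U.ι) ⊤ ⊤ e₁ _).symm)).trans ?_
  simp only [resMor, CohPull.pullOnIso, Iso.trans_hom, Functor.mapIso_hom, Iso.app_hom, Iso.symm_hom,
    Iso.app_inv, Category.assoc, Scheme.Modules.Hom.comp_app, ConcreteCategory.comp_apply]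
  have c1 : (((Scheme.Modules.pullback (rMor h)).map ((Scheme.Modules.restrictFunctorIsoPullback U.ι).hom.app F)).app ⊤)
      (pullRes (rMor h) (F.restrict U.ι) ⊤ ⊤ e₁ (F.presheaf.map (homOfLE U.ι_image_top.le).op s)) =
      pullRes (rMor h) ((Scheme.Modules.pullback U.ι).obj F) ⊤ ⊤ e₁ (pullRes U.ι F U ⊤ hU s) :=
    (pullRes_map (rMor h) ((Scheme.Modules.restrictFunctorIsoPullback U.ι).hom.app F) ⊤ ⊤ e₁ _).trans
      (congrArg (pullRes (rMor h) ((Scheme.Modules.pullback U.ι).obj F) ⊤ ⊤ e₁)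
        (restrictIso_pullRes U.ι F U ⊤ hU U.ι_image_top.le s))
  have c4 : ((Scheme.Modules.pullbackComp U'.ι (𝟙 X)).inv.app F).app ⊤ (pullRes (U'.ι ≫ 𝟙 X) F U ⊤ hc' s) =
      pullRes U'.ι ((Scheme.Modules.pullback (𝟙 X)).obj F) U' ⊤ hU'
        (pullRes (𝟙 X) F U U' (le_id_preimage h) s) := by
    rw [← pullbackComp_pullRes U'.ι (𝟙 X) F U U' ⊤ (le_id_preimage h) hU' hc' s, ← ConcreteCategory.comp_apply,
      ← Scheme.Modules.Hom.comp_app, Iso.hom_inv_id_app]
    rfl
  have c5 : ((Scheme.Modules.restrictFunctorIsoPullback U'.ι).inv.app ((Scheme.Modules.pullback (𝟙 X)).obj F)).app ⊤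
      (pullRes U'.ι ((Scheme.Modules.pullback (𝟙 X)).obj F) U' ⊤ hU' (pullRes (𝟙 X) F U U' (le_id_preimage h) s)) =
      ((Scheme.Modules.pullback (𝟙 X)).obj F).presheaf.map (homOfLE U'.ι_image_top.le).op
        (pullRes (𝟙 X) F U U' (le_id_preimage h) s) := by
    rw [← restrictIso_pullRes U'.ι ((Scheme.Modules.pullback (𝟙 X)).obj F) U' ⊤ hU' U'.ι_image_top.le,
      ← ConcreteCategory.comp_apply, ← Scheme.Modules.Hom.comp_app, Iso.hom_inv_id_app]
    rfl
  refine (congrArg _ (congrArg _ (congrArg _ (congrArg _ (congrArg _ c1))))).trans ?_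
  refine (congrArg _ (congrArg _ (congrArg _ (congrArg _
    (pullbackComp_pullRes (rMor h) U.ι F U ⊤ ⊤ hU e₁ hc s))))).trans ?_
  refine (congrArg _ (congrArg _ (congrArg _
    (pullbackCongr_pullRes (Scheme.Hom.resLE_comp_ι (𝟙 X) (le_id_preimage h)) F U ⊤ hc hc' s)))).trans ?_
  refine (congrArg _ (congrArg _ c4)).trans ?_
  refine (congrArg _ c5).trans ?_
  refine (app_res ((Scheme.Modules.pullbackId X).hom.app F) U'.ι_image_top.le _).trans ?_
  exact (congrArg (F.presheaf.map (homOfLE U'.ι_image_top.le).op)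
    (pullbackId_pullRes F U U' (le_id_preimage h) h s)).trans (map_map_sec F h _ s)

end GrothLib.CohPullLib
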